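import Mathlib
import Groth.Prelude.Def_Found
import Groth.Agent.N2Lib.Basic
import Groth.Agent.SmoothReduced.Basic
import Groth.Agent.RegNormal.Basic

/-!
# Descent of the Nagata property along faithfully flat maps with reduced generic fibres
-/

set_option autoImplicit false
universe u

open TensorProduct

namespace Groth.Agent.NagataDesc

variable {S : Type u} [CommRing S]

/-- integral closure of a Nagata ring in a field which is finitely generated and algebraic over it -/
theorem finite_integralClosure_field (hN : CAlg.IsNagata S) (F : Type u) [Field F] [Algebra S F]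
    [Algebra.EssFiniteType S F]
    (halg : ∀ x : F, ∃ f : Polynomial S, f.map (algebraMap S F) ≠ 0 ∧ Polynomial.aeval x f = 0) :
    Module.Finite S (integralClosure S F) := by
  have := hN.1
  let q := RingHom.ker (algebraMap S F)
  have : q.IsPrime := RingHom.ker_isPrime _
  letI : Algebra (S ⧸ q) F := (Ideal.Quotient.lift q (algebraMap S F) fun a ha => ha).toAlgebra
  have : IsScalarTower S (S ⧸ q) F := IsScalarTower.of_algebraMap_eq fun _ => rfl
  have hinj : Function.Injective (algebraMap (S ⧸ q) F) := (injective_iff_map_eq_zero _).2 fun a ha => by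
    obtain ⟨r, rfl⟩ := Ideal.Quotient.mk_surjective a
    exact Ideal.Quotient.eq_zero_iff_mem.2 (RingHom.mem_ker.2 ha)
  have : FaithfulSMul (S ⧸ q) F := (faithfulSMul_iff_algebraMap_injective _ _).2 hinj
  letI : Algebra (FractionRing (S ⧸ q)) F := FractionRing.liftAlgebra (S ⧸ q) F
  have : Algebra.EssFiniteType (S ⧸ q) F := Algebra.EssFiniteType.of_comp S (S ⧸ q) F
  have : Algebra.EssFiniteType (FractionRing (S ⧸ q)) F :=
    Algebra.EssFiniteType.of_comp (S ⧸ q) (FractionRing (S ⧸ q)) F
  have : Algebra.IsAlgebraic (FractionRing (S ⧸ q)) F := ⟨fun x => by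
    obtain ⟨f, hf, hfx⟩ := halg x
    refine ⟨(f.map (Ideal.Quotient.mk q)).map (algebraMap (S ⧸ q) (FractionRing (S ⧸ q))), fun h0 => ?_, ?_⟩
    · refine hf ?_
      rw [Polynomial.map_eq_zero_iff (IsFractionRing.injective _ _)] at h0
      rw [show algebraMap S F = (algebraMap (S ⧸ q) F).comp (Ideal.Quotient.mk q) from rfl,
        ← Polynomial.map_map, h0, Polynomial.map_zero]
    · rw [Polynomial.aeval_map_algebraMap, ← Ideal.Quotient.algebraMap_eq, Polynomial.aeval_map_algebraMap]
      exact hfx⟩
  have : FiniteDimensional (FractionRing (S ⧸ q)) F := by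
    obtain ⟨s, hs⟩ := IntermediateField.fg_top_iff.2
      (inferInstance : Algebra.EssFiniteType (FractionRing (S ⧸ q)) F)
    have hfd := IntermediateField.finiteDimensional_adjoin (K := FractionRing (S ⧸ q)) (S := (s : Set F))
      fun x _ => (Algebra.IsAlgebraic.isAlgebraic x).isIntegral
    rw [hs] at hfd
    exact Module.Finite.equiv IntermediateField.topEquiv.toLinearEquiv
  have := N2Lib.finite_integralClosure_of_isN2 (hN.2 q) (FractionRing (S ⧸ q)) F
  have : Module.Finite S (integralClosure (S ⧸ q) F) := Module.Finite.trans (S ⧸ q) _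
  refine Module.Finite.of_injective
    ({ toFun := fun z => ⟨z.1, z.2.tower_top⟩
       map_add' := fun _ _ => rfl
       map_smul' := fun _ _ => rfl } : integralClosure S F →ₗ[S] integralClosure (S ⧸ q) F)
    fun a b h => Subtype.ext (congrArg (fun z => z.1) h)

/-- integral closure of a Nagata ring in a reduced algebra -/
theorem finite_integralClosure_reduced (hN : CAlg.IsNagata S) (T : Type u) [CommRing T] [IsReduced T]
    [IsNoetherianRing T] [Algebra S T] [Algebra.EssFiniteType S T]
    (halg : ∀ (P : Ideal T) [P.IsPrime], ∀ x : P.ResidueField,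
      ∃ f : Polynomial S, f.map (algebraMap S P.ResidueField) ≠ 0 ∧ Polynomial.aeval x f = 0) :
    Module.Finite S (integralClosure S T) := by
  have := hN.1
  let M := {P : Ideal T // P ∈ minimalPrimes T}
  have : Finite M := (minimalPrimes.finite_of_isNoetherianRing T).to_subtype
  have hp : ∀ P : M, P.1.IsPrime := fun P => P.2.1.1
  have hfin : ∀ P : M, Module.Finite S (integralClosure S (@Ideal.ResidueField T _ P.1 (hp P))) := fun P => by
    have := hp P
    have : Algebra.EssFiniteType (T ⧸ P.1) P.1.ResidueField :=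
      Algebra.EssFiniteType.of_isLocalization _ (nonZeroDivisors (T ⧸ P.1))
    have : Algebra.EssFiniteType T P.1.ResidueField := Algebra.EssFiniteType.comp T (T ⧸ P.1) _
    have : Algebra.EssFiniteType S P.1.ResidueField := Algebra.EssFiniteType.comp S T _
    exact finite_integralClosure_field hN _ (halg P.1)
  let φ : integralClosure S T →ₗ[S] ((P : M) → integralClosure S (@Ideal.ResidueField T _ P.1 (hp P))) :=
    { toFun := fun z P => ⟨algebraMap T _ z.1, z.2.map (IsScalarTower.toAlgHom S T _)⟩
      map_add' := fun a b => funext fun P => Subtype.ext (map_add _ a.1 b.1)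
      map_smul' := fun r a => funext fun P => Subtype.ext
        (map_smul (IsScalarTower.toAlgHom S T (@Ideal.ResidueField T _ P.1 (hp P))) r a.1) }
  refine Module.Finite.of_injective φ fun a b h => Subtype.ext (sub_eq_zero.1 ?_)
  have hz : a.1 - b.1 ∈ sInf (minimalPrimes T) := Submodule.mem_sInf.2 fun P hP => by
    have := hP.1.1
    rw [← Ideal.algebraMap_residueField_eq_zero, map_sub, sub_eq_zero]
    exact congrArg Subtype.val (congr_fun h ⟨P, hP⟩)
  rw [minimalPrimes, Ideal.sInf_minimalPrimes] at hz
  exact (IsReduced.eq_zero _ (by simpa using hz))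

/-- Nagata descends along faithfully flat smooth maps -/
theorem isNagata_of_smooth (R : Type u) [CommRing R] (S : Type u) [CommRing S] [Algebra R S]
    [Algebra.Smooth R S] [Module.FaithfullyFlat R S] (hS : CAlg.IsNagata S) : CAlg.IsNagata R := by
  have := hS.1
  have hR := RegNormal.isNoetherianRing_of_faithfullyFlat R S
  refine ⟨hR, fun p hp L _ _ _ _ hfin => ?_⟩
  letI : Algebra R L := ((algebraMap (R ⧸ p) L).comp (Ideal.Quotient.mk p)).toAlgebra
  have : IsScalarTower R (R ⧸ p) L := IsScalarTower.of_algebraMap_eq fun _ => rfl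
  have : Algebra.EssFiniteType (R ⧸ p) L := Algebra.EssFiniteType.comp (R ⧸ p) (FractionRing (R ⧸ p)) L
  have : Algebra.EssFiniteType R L := Algebra.EssFiniteType.comp R (R ⧸ p) L
  have hLinj : Function.Injective (algebraMap (R ⧸ p) L) := by
    rw [IsScalarTower.algebraMap_eq (R ⧸ p) (FractionRing (R ⧸ p)) L]
    exact (algebraMap (FractionRing (R ⧸ p)) L).injective.comp (IsFractionRing.injective _ _)
  let T := S ⊗[R] L
  have : IsReduced (L ⊗[R] S) := SmoothReduced.isReduced_of_smooth L (L ⊗[R] S)
  have : IsReduced T := isReduced_of_injective (Algebra.TensorProduct.comm R S L).toRingEquiv.toRingHom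
    (Algebra.TensorProduct.comm R S L).injective
  have : IsNoetherianRing T := Algebra.EssFiniteType.isNoetherianRing S T
  have halg : ∀ (P : Ideal T) [P.IsPrime], ∀ x : P.ResidueField,
      ∃ f : Polynomial S, f.map (algebraMap S P.ResidueField) ≠ 0 ∧ Polynomial.aeval x f = 0 := by
    intro P _ x
    let F := P.ResidueField
    let ψ : L →ₐ[R] F := ((IsScalarTower.toAlgHom R T F)).comp Algebra.TensorProduct.includeRight
    let q := RingHom.ker (algebraMap S F)
    have : q.IsPrime := RingHom.ker_isPrime _
    letI : Algebra (S ⧸ q) F := (Ideal.Quotient.lift q (algebraMap S F) fun a ha => ha).toAlgebra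
    have : IsScalarTower S (S ⧸ q) F := IsScalarTower.of_algebraMap_eq fun _ => rfl
    have hinj : Function.Injective (algebraMap (S ⧸ q) F) := (injective_iff_map_eq_zero _).2 fun a ha => by
      obtain ⟨r, rfl⟩ := Ideal.Quotient.mk_surjective a
      exact Ideal.Quotient.eq_zero_iff_mem.2 (RingHom.mem_ker.2 ha)
    have : FaithfulSMul (S ⧸ q) F := (faithfulSMul_iff_algebraMap_injective _ _).2 hinj
    letI : Algebra (FractionRing (S ⧸ q)) F := FractionRing.liftAlgebra (S ⧸ q) F
    let M := algebraicClosure (FractionRing (S ⧸ q)) F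
    have hmemS : ∀ s : S, algebraMap S F s ∈ M := fun s => by
      rw [IsScalarTower.algebraMap_apply S (S ⧸ q) F, IsScalarTower.algebraMap_apply (S ⧸ q) (FractionRing (S ⧸ q)) F]
      exact M.algebraMap_mem _
    have hmemL : ∀ l : L, ψ l ∈ M := fun l => by
      have hl : IsAlgebraic (R ⧸ p) l := (IsFractionRing.isAlgebraic_iff (R ⧸ p) (FractionRing (R ⧸ p)) L).2
        (Algebra.IsAlgebraic.isAlgebraic l)
      obtain ⟨f, hf, hfl⟩ := hl
      obtain ⟨g, rfl⟩ := Polynomial.map_surjective (Ideal.Quotient.mk p) Ideal.Quotient.mk_surjective f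
      rw [← Ideal.Quotient.algebraMap_eq, Polynomial.aeval_map_algebraMap] at hfl
      refine mem_algebraicClosure_iff.2 ⟨g.map ((algebraMap S (FractionRing (S ⧸ q))).comp (algebraMap R S)),
        fun h0 => hf ?_, ?_⟩
      · have h1 := congrArg (Polynomial.map (algebraMap (FractionRing (S ⧸ q)) F)) h0
        rw [Polynomial.map_map, Polynomial.map_zero, ← RingHom.comp_assoc, ← IsScalarTower.algebraMap_eq,
          ← IsScalarTower.algebraMap_eq, ← ψ.comp_algebraMap,
          show algebraMap R L = (algebraMap (R ⧸ p) L).comp (Ideal.Quotient.mk p) from rfl, ← Polynomial.map_map,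
          ← Polynomial.map_map, Polynomial.map_eq_zero_iff (f := (ψ : L →+* F)) (RingHom.injective _),
          Polynomial.map_eq_zero_iff hLinj] at h1
        exact h1
      · rw [Polynomial.aeval_def, Polynomial.eval₂_map, ← RingHom.comp_assoc, ← IsScalarTower.algebraMap_eq,
          ← IsScalarTower.algebraMap_eq, ← Polynomial.aeval_def, Polynomial.aeval_algHom_apply, hfl, map_zero]
    have hmemT : ∀ t : T, algebraMap T F t ∈ M := fun t => by
      induction t using TensorProduct.induction_on with
      | zero => exact (map_zero (algebraMap T F)).symm ▸ M.zero_mem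
      | add a b ha hb => exact (map_add (algebraMap T F) a b).symm ▸ M.add_mem ha hb
      | tmul s l =>
        rw [show (s ⊗ₜ[R] l : T) = algebraMap S T s * (1 ⊗ₜ l) from (show ((s ⊗ₜ[R] (1 : L)) * ((1 : S) ⊗ₜ[R] l) : S ⊗[R] L) = s ⊗ₜ l by simp).symm,
          map_mul, ← IsScalarTower.algebraMap_apply]
        exact M.mul_mem (hmemS s) (hmemL l)
    have hx : x ∈ M := by
      obtain ⟨a, b, hb, rfl⟩ := IsFractionRing.div_surjective (A := T ⧸ P) x
      obtain ⟨a, rfl⟩ := Ideal.Quotient.mk_surjective a
      obtain ⟨b, rfl⟩ := Ideal.Quotient.mk_surjective b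
      exact M.div_mem (hmemT a) (hmemT b)
    obtain ⟨f, hf, hfx⟩ := (IsFractionRing.isAlgebraic_iff (S ⧸ q) (FractionRing (S ⧸ q)) F).2
      (mem_algebraicClosure_iff.1 hx)
    obtain ⟨g, rfl⟩ := Polynomial.map_surjective (Ideal.Quotient.mk q) Ideal.Quotient.mk_surjective f
    refine ⟨g, fun h0 => hf ?_, by rwa [← Ideal.Quotient.algebraMap_eq, Polynomial.aeval_map_algebraMap] at hfx⟩
    rw [show algebraMap S F = (algebraMap (S ⧸ q) F).comp (Ideal.Quotient.mk q) from rfl, ← Polynomial.map_map,
      Polynomial.map_eq_zero_iff hinj] at h0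
    exact h0
  have hT := finite_integralClosure_reduced hS T halg
  let B := integralClosure (R ⧸ p) L
  let j : B →ₐ[R] L := B.val.restrictScalars R
  let Φ : S ⊗[R] B →ₐ[S] T := Algebra.TensorProduct.map (AlgHom.id S S) j
  have hΦ : Function.Injective Φ :=
    Module.Flat.lTensor_preserves_injective_linearMap (M := S) j.toLinearMap Subtype.val_injective
  have hint : ∀ z, IsIntegral S (Φ z) := fun z => by
    induction z with
    | zero => rw [map_zero]; exact isIntegral_zero
    | add a b ha hb => rw [map_add]; exact ha.add hb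
    | tmul s b =>
      rw [show (s ⊗ₜ[R] b : S ⊗[R] B) = s • (1 ⊗ₜ b) by simp [TensorProduct.smul_tmul'], map_smul]
      refine IsIntegral.smul s ?_
      show IsIntegral S ((Algebra.TensorProduct.includeRight : L →ₐ[R] T) b.1)
      exact ((isIntegral_trans (R := R) (A := R ⧸ p) b.1 b.2).map
        (Algebra.TensorProduct.includeRight : L →ₐ[R] T)).tower_top
  have : Module.Finite S (S ⊗[R] B) := Module.Finite.of_injective
    ((Φ.codRestrict (integralClosure S T) hint).toLinearMap) fun a b h => hΦ (congrArg Subtype.val h)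
  have : Module.Finite R B := Module.Finite.of_finite_tensorProduct_of_faithfullyFlat S
  exact Module.Finite.of_restrictScalars_finite R (R ⧸ p) B

end Groth.Agent.NagataDesc
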